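import Cfsg.Agent.Lib.PushPair69.Main
import Cfsg.Agent.Lib.PushUpP.Common

/-!
The common subgroup of the multi-type amalgam in the form used by the reduction.
-/

set_option autoImplicit false
set_option linter.style.haveILetI false
universe u

open Cfsg

namespace Cfsg.Agent.Lib.PushPair69

theorem commonHyp (p : ℕ) [hp : Fact p.Prime] : CommonHyp.{u} p := by
  intro S _ _ hS hzj hel
  have hom : Cfsg.Agent.Lib.PushUpP.omZ p S = Subgroup.center S := le_antisymm
    (Cfsg.Agent.Lib.PushUpP.omZ_le_center p S)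
    fun z hz => ⟨hz, Cfsg.Agent.Lib.PGroups.elemAb_pow hel hz⟩
  obtain ⟨W, hWc, hWab, hW⟩ := Cfsg.Agent.Lib.PushUpP.exists_common hS hzj (excSub p S) rfl
  refine ⟨W, hWc, fun a ha => Subgroup.mem_centralizer_iff.mpr fun b hb => ((hWab a ha).2 b hb).symm,
    fun G _ _ τ hinj hE => ?_⟩
  obtain ⟨-, hP, hcent, huniq, K, hK, F, hFi, hFt, n, hF, he⟩ := hE
  have hn : 1 ≤ n := by
    rcases Nat.eq_zero_or_pos n with h | h
    · have := Fintype.one_lt_card (α := F)
      rw [hF, h, pow_zero] at this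
      omega
    · exact h
  rcases hW G τ hinj hP hcent huniq ⟨K, hK, F, hFi, hFt, n, hn, hF, he⟩ with h | ⟨h1, h2, -⟩
  · rw [hom] at h; exact Or.inl h
  · rw [hom] at h2; exact Or.inr ⟨h1, h2⟩

end Cfsg.Agent.Lib.PushPair69
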