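import Cfsg.Agent.Lib.PushPair69.Iso
import Cfsg.Agent.Lib.Baumann.PushCenter

/-!
The centrally large layer: an invariant abelian subgroup `W` containing all `⟨Z(S)^G⟩` yields a centrally large
characteristic subgroup that is normal in all these groups.
-/

set_option autoImplicit false
set_option linter.unusedSectionVars false
set_option linter.style.haveILetI false
universe u

open Cfsg
open scoped Pointwise commutatorElement

namespace Cfsg.Agent.Lib.PushPair69

open Cfsg.Agent.Lib.LA5.Basic
open Cfsg.Agent.Lib.LAEven57.CL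
open Cfsg.Agent.Lib.LAEven57.PushingUp

/-- The exponent subgroup of the exceptional class. -/
noncomputable def excSub (p : ℕ) (S : Type*) [Group S] : Subgroup S :=
  if p = 2 then ⁅frattini S, (⊤ : Subgroup S)⁆ ⊔ (frattini ↥(frattini S)).map (frattini S).subtype
  else if p = 3 then
    ⁅⁅frattini S, (⊤ : Subgroup S)⁆, (⊤ : Subgroup S)⁆ ⊔ (frattini ↥(frattini S)).map (frattini S).subtype
  else ⁅frattini S, (⊤ : Subgroup S)⁆ ⊔ powerClosure p 1 (⊤ : Subgroup S)

/-- The members of largest measure that are abelian. -/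
def Member {S : Type*} [Group S] (U : Subgroup S) : Prop := IsCentralizerLarge U ∧ U ≤ cz U

variable {S : Type u} [Group S] [Finite S]

theorem Member.cl {U : Subgroup S} (h : Member U) : IsCentrallyLarge (cz U) :=
  centrallyLarge_iff.mpr ⟨(cz_large h.1).1, (cz_large h.1).2.le.trans h.2⟩

theorem Member.sup {U U' : Subgroup S} (h : Member U) (h' : Member U') (hc : U ≤ cz U') : Member (U ⊔ U') := by
  refine ⟨(cd h.1 h'.1).1, ?_⟩
  show U ⊔ U' ≤ Subgroup.centralizer ((U ⊔ U' : Subgroup S) : Set S)
  rw [centralizer_sup]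
  exact sup_le (le_inf h.2 hc) (le_inf (Subgroup.le_centralizer_iff.mp hc) h'.2)

theorem Member.map (φ : S ≃* S) {U : Subgroup S} (h : Member U) : Member (im φ U) := by
  have hcz : cz (im φ U) = im φ (cz U) := by
    rw [im, im, cz, cz, map_centralizer _ φ.injective, MonoidHom.range_eq_top.mpr φ.surjective, top_inf_eq]
  refine ⟨?_, hcz ▸ Subgroup.map_mono h.2⟩
  show Nat.card ↥(im φ U) * Nat.card ↥(cz (im φ U)) = _
  rw [hcz, im, im, Subgroup.card_map_of_injective φ.injective, Subgroup.card_map_of_injective φ.injective]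
  exact h.1

variable {G : Type*} [Group G] [Finite G] {p : ℕ} [hp : Fact p.Prime] {τ : S →* G}

/-- The pull back of `⟨Z(S)^G⟩` is an abelian member of largest measure centralized exactly by `O_p(G)`. -/
theorem closure_member (hinj : Function.Injective τ) (hE : IsPushingUpSituation p τ.range)
    (hel : IsElementaryAbelian p (Subgroup.center S)) (htop : IsCentrallyLarge (⊤ : Subgroup S))
    (hbad : ¬ (Subgroup.center S).map τ ≤ Subgroup.center G) :
    Member ((Subgroup.normalClosure (((Subgroup.center S).map τ : Subgroup G) : Set G)).comap τ) ∧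
      cz ((Subgroup.normalClosure (((Subgroup.center S).map τ : Subgroup G) : Set G)).comap τ) =
        (pCore p G).comap τ := by
  obtain ⟨M, F, _, _, n, π, h⟩ := exists_data hE
  obtain ⟨P₀, hP₀⟩ := id hE.2.1
  have hPS : pCore p G ≤ τ.range := hP₀ ▸ Cfsg.Agent.Lib.Cores.pCore_le_sylow P₀
  set Z := (Subgroup.center S).map τ with hZ
  have hZc : Z = τ.range ⊓ Subgroup.centralizer (τ.range : Set G) := map_center τ hinj
  set W := pCore p G ⊓ Subgroup.centralizer (pCore p G : Set G) with hW
  have hWc : IsMulCommutative ↥W :=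
    isMulCommutative_iff_le_cz.mpr (inf_le_right.trans (cz_anti inf_le_left))
  have hZΩ : Z ≤ omegaOne p W := by
    rintro x hx
    have hx' := hx
    rw [hZc] at hx'
    have h1 : x ∈ Subgroup.centralizer (pCore p G : Set G) := cz_anti hPS hx'.2
    obtain ⟨z, hz, rfl⟩ := hx
    exact Cfsg.Agent.Lib.PGroups.mem_omegaOne_of_pow ⟨hE.2.2.1 h1, h1⟩
      (by rw [← map_pow, Cfsg.Agent.Lib.PGroups.elemAb_pow hel hz, map_one])
  haveI : (omegaOne p W).Normal := Cfsg.Agent.Lib.PGroups.omegaOne_normal
  set V := Subgroup.normalClosure (Z : Set G) with hV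
  have hVΩ : V ≤ omegaOne p W := Subgroup.normalClosure_le_normal hZΩ
  have hΩel : IsElementaryAbelian p (omegaOne p W) := Cfsg.Agent.Lib.PGroups.elemAb_omegaOne hWc
  have hVel : IsElementaryAbelian p V := Cfsg.Agent.Lib.PGroups.elemAb_mk
    (fun a ha b hb => Cfsg.Agent.Lib.PGroups.elemAb_comm hΩel (hVΩ ha) (hVΩ hb))
    (fun a ha => Cfsg.Agent.Lib.PGroups.elemAb_pow hΩel (hVΩ ha))
  have hVW : V ≤ W := hVΩ.trans (Cfsg.Agent.Lib.PGroups.omegaOne_le p W)
  have hPV : pCore p G ≤ Subgroup.centralizer (V : Set G) :=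
    Subgroup.le_centralizer_iff.mp (hVW.trans inf_le_right)
  have hCM : Subgroup.centralizer (V : Set G) ≤ M := by
    by_contra hne
    refine hbad ?_
    haveI : (Subgroup.centralizer (V : Set G)).Normal := inferInstance
    have htop' : Subgroup.centralizer (V : Set G) ⊔ τ.range = ⊤ := by
      by_contra h'
      exact hne (le_sup_left.trans (coatom_eq h.2.2.1 le_sup_right h'))
    refine Cfsg.Agent.Lib.Baumann.PushCenter.le_center_of_cz htop'
      ((Subgroup.le_normalClosure : Z ≤ V).trans (Subgroup.le_centralizer_iff.mp le_rfl)) ?_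
    rw [hZc]; exact inf_le_right
  have hb := bound hE.2.1 h V hVel hPV hCM hPS le_rfl
  set Vs := V.comap τ with hVs
  set Ps := (pCore p G).comap τ with hPs
  have hVmap : Vs.map τ = V :=
    Subgroup.map_comap_eq_self ((hVW.trans inf_le_left).trans hPS)
  have hPmap : Ps.map τ = pCore p G := Subgroup.map_comap_eq_self hPS
  have hle : Ps ≤ cz Vs := fun x hx => Subgroup.mem_centralizer_iff.mpr fun v hv => hinj (by
    rw [map_mul, map_mul, Subgroup.mem_centralizer_iff.mp (hPV hx) (τ v) hv])
  have hVab : Vs ≤ cz Vs := fun x hx => hle ((hVW.trans inf_le_left) hx : τ x ∈ pCore p G)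
  have hZV : Z ≤ V ⊓ Subgroup.centralizer (τ.range : Set G) := by
    refine le_inf Subgroup.le_normalClosure ?_
    rw [hZc]; exact inf_le_right
  have hf : maxCentralizerProduct S ≤ Nat.card ↥Ps * Nat.card ↥Vs := by
    rw [← Subgroup.card_map_of_injective (K := Ps) hinj, ← Subgroup.card_map_of_injective (K := Vs) hinj,
      hPmap, hVmap]
    refine le_trans (le_of_eq ?_) ((Nat.mul_le_mul_left _ (Subgroup.card_le_of_le hZV)).trans hb)
    rw [← (centrallyLarge_iff.mp htop).1, hZ, Subgroup.card_map_of_injective hinj, MonoidHom.range_eq_map,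
      Subgroup.card_map_of_injective hinj]
    simp only [Subgroup.coe_top, Subgroup.centralizer_univ]
  have h1 : maxCentralizerProduct S ≤ mC Vs := by
    rw [mC, mul_comm]
    exact hf.trans (Nat.mul_le_mul_right _ (Subgroup.card_le_of_le hle))
  refine ⟨⟨eq_of_le_mC h1, hVab⟩, (Subgroup.eq_of_le_of_card_ge hle ?_).symm⟩
  refine Nat.le_of_mul_le_mul_right (c := Nat.card ↥Vs) ?_ Nat.card_pos
  rw [mul_comm]
  exact (mC_le Vs).trans hf

/-- Conjugation inside `O_p(G)` preserves the members. -/
theorem Member.conj (hinj : Function.Injective τ) (hPS : pCore p G ≤ τ.range) {U : Subgroup S} (hU : Member U)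
    (hUP : U.map τ ≤ pCore p G) (hCP : (cz U).map τ ≤ pCore p G) (g : G) :
    Member (((U.map τ).map (MulAut.conj g).toMonoidHom).comap τ) ∧
      (((U.map τ).map (MulAut.conj g).toMonoidHom).comap τ).map τ = (U.map τ).map (MulAut.conj g).toMonoidHom := by
  have hconj : ∀ {X : Subgroup G}, X ≤ pCore p G → X.map (MulAut.conj g).toMonoidHom ≤ τ.range := fun hX =>
    ((Subgroup.map_mono hX).trans (mem_normalizer_iff_conj_eq.mp
      (by rw [Subgroup.normalizer_eq_top_iff.mpr inferInstance]; exact Subgroup.mem_top g)).le).trans hPS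
  set U' := ((U.map τ).map (MulAut.conj g).toMonoidHom).comap τ with hU'
  set C' := (((cz U).map τ).map (MulAut.conj g).toMonoidHom).comap τ with hC'
  have e1 : U'.map τ = (U.map τ).map (MulAut.conj g).toMonoidHom := Subgroup.map_comap_eq_self (hconj hUP)
  have e2 : C'.map τ = ((cz U).map τ).map (MulAut.conj g).toMonoidHom := Subgroup.map_comap_eq_self (hconj hCP)
  have hle : C' ≤ cz U' := by
    rintro x ⟨_, ⟨c, hc, rfl⟩, hx⟩
    refine Subgroup.mem_centralizer_iff.mpr ?_
    rintro y ⟨_, ⟨v, hv, rfl⟩, hy⟩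
    apply hinj
    rw [map_mul, map_mul, ← hx, ← hy, ← map_mul, ← map_mul, ← map_mul, ← map_mul,
      Subgroup.mem_centralizer_iff.mp hc v hv]
  have hab : U' ≤ C' := Subgroup.comap_mono (Subgroup.map_mono (Subgroup.map_mono hU.2))
  refine ⟨⟨eq_of_le_mC ?_, hab.trans hle⟩, e1⟩
  refine le_trans (le_of_eq ?_) (Nat.mul_le_mul_left _ (Subgroup.card_le_of_le hle))
  rw [← Subgroup.card_map_of_injective (K := U') hinj, ← Subgroup.card_map_of_injective (K := C') hinj, e1, e2,
    card_conj, card_conj, Subgroup.card_map_of_injective hinj, Subgroup.card_map_of_injective hinj]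
  exact hU.1.symm

/-- The members inside `W`. -/
def memberJoin (W : Subgroup S) : Subgroup S := sSup {U : Subgroup S | Member U ∧ U ≤ W}

theorem memberJoin_le (W : Subgroup S) : memberJoin W ≤ W := sSup_le fun _ h => h.2

theorem memberJoin_member {W : Subgroup S} (hW : W ≤ cz W) (hne : {U : Subgroup S | Member U ∧ U ≤ W}.Nonempty) :
    Member (memberJoin W) := by
  obtain ⟨U, hU, hmax⟩ := Set.exists_max_image _ (fun U : Subgroup S => Nat.card ↥U) (Set.toFinite _) hne
  have : memberJoin W = U := by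
    refine le_antisymm (sSup_le fun U' hU' => ?_) (le_sSup hU)
    have hj : U' ⊔ U ∈ {U : Subgroup S | Member U ∧ U ≤ W} :=
      ⟨hU'.1.sup hU.1 (hU'.2.trans (hW.trans (cz_anti hU.2))), sup_le hU'.2 hU.2⟩
    have := Subgroup.eq_of_le_of_card_ge (le_sup_right : U ≤ U' ⊔ U) (hmax _ hj)
    exact le_sup_left.trans this.ge
  exact this ▸ hU.1

theorem memberJoin_char {W : Subgroup S} (hW : W.Characteristic) : (memberJoin W).Characteristic := by
  refine Subgroup.characteristic_iff_map_le.mpr fun φ => ?_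
  rw [Subgroup.map_le_iff_le_comap]
  refine sSup_le fun U hU => ?_
  rw [← Subgroup.map_le_iff_le_comap]
  exact le_sSup (show im φ U ∈ {U : Subgroup S | Member U ∧ U ≤ W} from
    ⟨hU.1.map φ, (Subgroup.map_mono hU.2).trans (Subgroup.characteristic_iff_map_eq.mp hW φ).le⟩)

/-- The join of the members inside `W` and its centralizer are normal in `G`. -/
theorem memberJoin_normal (hinj : Function.Injective τ) (hE : IsPushingUpSituation p τ.range)
    (hel : IsElementaryAbelian p (Subgroup.center S)) (htop : IsCentrallyLarge (⊤ : Subgroup S))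
    (hbad : ¬ (Subgroup.center S).map τ ≤ Subgroup.center G) {W : Subgroup S} (hW : W ≤ cz W)
    (hWn : (W.map τ).Normal)
    (hVW : Subgroup.normalClosure (((Subgroup.center S).map τ : Subgroup G) : Set G) ≤ W.map τ) :
    (cz (memberJoin W)).map τ ≤ pCore p G ∧ ((cz (memberJoin W)).map τ).Normal := by
  obtain ⟨P₀, hP₀⟩ := id hE.2.1
  have hPS : pCore p G ≤ τ.range := hP₀ ▸ Cfsg.Agent.Lib.Cores.pCore_le_sylow P₀
  obtain ⟨hVm, hVc⟩ := closure_member hinj hE hel htop hbad
  set V := Subgroup.normalClosure (((Subgroup.center S).map τ : Subgroup G) : Set G) with hV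
  have hVsW : V.comap τ ≤ W := fun x hx => by
    obtain ⟨w, hw, hwx⟩ := hVW hx
    exact hinj hwx ▸ hw
  have hne : {U : Subgroup S | Member U ∧ U ≤ W}.Nonempty := ⟨_, hVm, hVsW⟩
  set U := memberJoin W with hU
  have hUm := memberJoin_member hW hne
  have hVU : V.comap τ ≤ U := le_sSup ⟨hVm, hVsW⟩
  have hCP : (cz U).map τ ≤ pCore p G :=
    Subgroup.map_le_iff_le_comap.mpr ((cz_anti hVU).trans hVc.le)
  have hUP : U.map τ ≤ pCore p G := (Subgroup.map_mono hUm.2).trans hCP
  refine ⟨hCP, ?_⟩
  have hUn : ∀ g : G, (U.map τ).map (MulAut.conj g).toMonoidHom = U.map τ := fun g => by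
    obtain ⟨hm, e⟩ := hUm.conj hinj hPS hUP hCP g
    refine Subgroup.eq_of_le_of_card_ge ?_ (card_conj _ _).ge
    rw [← e]
    refine Subgroup.map_mono (le_sSup ⟨hm, fun x hx => ?_⟩)
    obtain ⟨_, ⟨v, hv, rfl⟩, hvx⟩ := hx
    obtain ⟨w, hw, hwx⟩ := hWn.conj_mem _ (Subgroup.mem_map_of_mem τ (memberJoin_le W hv)) g
    exact hinj (hwx.trans hvx) ▸ hw
  haveI : (U.map τ).Normal := normal_of_conj_le fun g => (hUn g).le
  haveI : (Subgroup.centralizer ((U.map τ : Subgroup G) : Set G)).Normal := inferInstance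
  have e : (cz U).map τ = pCore p G ⊓ Subgroup.centralizer ((U.map τ : Subgroup G) : Set G) := by
    refine le_antisymm (le_inf hCP ?_) ?_
    · rw [cz, map_centralizer τ hinj]; exact inf_le_right
    · rw [cz, map_centralizer τ hinj]; exact inf_le_inf_right _ hPS
  rw [e]
  infer_instance

end Cfsg.Agent.Lib.PushPair69
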