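import Cfsg.Agent.Lib.LAEven57.PushingUp.Main
import Cfsg.Agent.Lib.ZJ.AbelianJ

/-!
Transport of the Thompson subgroup and of the centrally large subgroups along an isomorphism.
-/

set_option autoImplicit false
set_option linter.unusedSectionVars false

open Cfsg

namespace Cfsg.Agent.Lib.PushPair69

open Cfsg.Agent.Lib.LAEven57.CL

variable {A B : Type*} [Group A] [Group B]

theorem map_centralizer (f : A →* B) (hf : Function.Injective f) (H : Subgroup A) :
    (Subgroup.centralizer (H : Set A)).map f =
      f.range ⊓ Subgroup.centralizer ((H.map f : Subgroup B) : Set B) := by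
  ext x
  constructor
  · rintro ⟨a, ha, rfl⟩
    refine ⟨⟨a, rfl⟩, Subgroup.mem_centralizer_iff.mpr ?_⟩
    rintro _ ⟨h, hh, rfl⟩
    rw [← map_mul, ← map_mul, Subgroup.mem_centralizer_iff.mp ha h hh]
  · rintro ⟨⟨a, rfl⟩, hx⟩
    refine ⟨a, Subgroup.mem_centralizer_iff.mpr fun h hh => hf ?_, rfl⟩
    rw [map_mul, map_mul, Subgroup.mem_centralizer_iff.mp hx (f h) ⟨h, hh, rfl⟩]

theorem map_center (f : A →* B) (hf : Function.Injective f) :
    (Subgroup.center A).map f = f.range ⊓ Subgroup.centralizer (f.range : Set B) := by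
  rw [← Subgroup.centralizer_univ, ← Subgroup.coe_top, map_centralizer f hf, ← MonoidHom.range_eq_map]

theorem thompsonAOf_top : thompsonSubgroupAOf (⊤ : Subgroup A) = thompsonSubgroupA A := by
  rw [Cfsg.Agent.Lib.ZJ.thompsonSubgroupAOf_eq, thompsonSubgroupA]
  congr 1
  ext H
  exact ⟨fun h => ⟨h.2.1, fun K hK => h.2.2 K le_top hK⟩, fun h => ⟨le_top, h.1, fun K _ hK => h.2 K hK⟩⟩

theorem map_thompsonA (f : A →* B) (hf : Function.Injective f) :
    (thompsonSubgroupA A).map f = thompsonSubgroupAOf f.range := by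
  rw [← thompsonAOf_top, Cfsg.Agent.Lib.ZJ.map_thompsonSubgroupAOf f hf, ← MonoidHom.range_eq_map]

theorem map_centerThompsonA (f : A →* B) (hf : Function.Injective f) :
    (thompsonSubgroupA A ⊓ Subgroup.centralizer (thompsonSubgroupA A : Set A)).map f =
      centerThompsonAOf f.range := by
  rw [Subgroup.map_inf _ _ _ hf, map_centralizer f hf, map_thompsonA f hf, centerThompsonAOf,
    ← inf_assoc, inf_eq_left.mpr (show thompsonSubgroupAOf f.range ≤ f.range from Subgroup.map_subtype_le _)]

variable [Finite A] [Finite B] (e : A ≃* B)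

/-- The image of a subgroup. -/
abbrev im (R : Subgroup A) : Subgroup B := R.map e.toMonoidHom

/-- The restriction of the isomorphism. -/
noncomputable abbrev res (R : Subgroup A) : ↥R ≃* ↥(im e R) :=
  R.equivMapOfInjective e.toMonoidHom e.injective

theorem im_symm_im (R : Subgroup A) : im e.symm (im e R) = R := by
  rw [im, im, Subgroup.map_map]
  convert Subgroup.map_id R
  ext x
  simp

theorem mZ_im (R : Subgroup A) :
    Nat.card ↥(im e R) * Nat.card ↥(Subgroup.center ↥(im e R)) =
      Nat.card ↥R * Nat.card ↥(Subgroup.center ↥R) := by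
  rw [← Nat.card_congr (res e R).toEquiv, ← Nat.card_congr (Subgroup.centerCongr (res e R)).toEquiv]

theorem maxCentralProduct_congr (e : A ≃* B) : maxCentralProduct A = maxCentralProduct B := by
  refine congrArg sSup ?_
  ext k
  constructor
  · rintro ⟨R, hR⟩
    exact ⟨im e R, (mZ_im e R).trans hR⟩
  · rintro ⟨R, hR⟩
    exact ⟨im e.symm R, (mZ_im e.symm R).trans hR⟩

theorem cl_im {R : Subgroup A} (h : IsCentrallyLarge R) : IsCentrallyLarge (im e R) :=
  (mZ_im e R).trans (Eq.trans h (maxCentralProduct_congr e))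

theorem mcl_im {R : Subgroup A} (h : IsMinimalCentrallyLarge R) : IsMinimalCentrallyLarge (im e R) := by
  refine ⟨cl_im e h.1, fun R' hle hR' => ?_⟩
  have h1 : im e.symm R' ≤ R := by
    calc im e.symm R' ≤ im e.symm (im e R) := Subgroup.map_mono hle
      _ = R := im_symm_im e R
  rw [← h.2 _ h1 (cl_im e.symm hR')]
  exact (im_symm_im e.symm R').symm

theorem map_minimalJoin :
    (minimalCentrallyLargeJoin A).map e.toMonoidHom = minimalCentrallyLargeJoin B := by
  apply le_antisymm
  · rw [Subgroup.map_le_iff_le_comap]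
    refine sSup_le fun R hR => ?_
    rw [← Subgroup.map_le_iff_le_comap]
    exact le_sSup (show im e R ∈ {R : Subgroup B | IsMinimalCentrallyLarge R} from mcl_im e hR)
  · refine sSup_le fun R hR => ?_
    rw [← im_symm_im e.symm R]
    exact Subgroup.map_mono (le_sSup (mcl_im e.symm hR))

theorem omega_im (p : ℕ) (R : Subgroup A) : omegaOneCenter p (im e R) = (omegaOneCenter p R).map e.toMonoidHom := by
  rw [omegaOneCenter, omegaOneCenter, Cfsg.Agent.Lib.PGroups.map_omegaOne_of_injective _ e.injective,
    Subgroup.map_inf _ _ _ e.injective, map_centralizer _ e.injective,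
    MonoidHom.range_eq_top.mpr e.surjective, top_inf_eq]

theorem card_omega_im (p : ℕ) (R : Subgroup A) :
    Nat.card ↥(omegaOneCenter p (im e R)) = Nat.card ↥(omegaOneCenter p R) := by
  rw [omega_im, Subgroup.card_map_of_injective e.injective]

theorem maxOmega_congr (e : A ≃* B) (p : ℕ) :
    maxOmegaCenterOfMinimalCL p A = maxOmegaCenterOfMinimalCL p B := by
  refine congrArg sSup ?_
  ext k
  constructor
  · rintro ⟨R, hR, hk⟩
    exact ⟨im e R, mcl_im e hR, (card_omega_im e p R).trans hk⟩
  · rintro ⟨R, hR, hk⟩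
    exact ⟨im e.symm R, mcl_im e.symm hR, (card_omega_im e.symm p R).trans hk⟩

theorem frattini_im (R : Subgroup A) :
    (frattini ↥(im e R)).map (im e R).subtype = ((frattini ↥R).map R.subtype).map e.toMonoidHom := by
  have h : (frattini ↥R).map (res e R).toMonoidHom = frattini ↥(im e R) := by
    refine le_antisymm (Subgroup.map_le_iff_le_comap.mpr
      (frattini_le_comap_frattini_of_surjective (res e R).surjective)) fun y hy => ?_
    refine ⟨(res e R).symm y, frattini_le_comap_frattini_of_surjective
      (φ := (res e R).symm.toMonoidHom) (res e R).symm.surjective hy, ?_⟩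
    exact (res e R).apply_symm_apply y
  rw [← h, Subgroup.map_map, Subgroup.map_map]
  rfl

theorem frattiniJoin_le (p : ℕ) :
    (frattiniOfMinimalCLJoin p A).map e.toMonoidHom ≤ frattiniOfMinimalCLJoin p B := by
  rw [frattiniOfMinimalCLJoin, Subgroup.map_iSup]
  refine iSup_le fun ⟨R, hR, hm⟩ => ?_
  rw [← frattini_im e R]
  exact le_iSup (fun R : {R : Subgroup B // IsMinimalCentrallyLarge R ∧
    Nat.card ↥(omegaOneCenter p R) = maxOmegaCenterOfMinimalCL p B} =>
      (frattini ↥(R : Subgroup B)).map (R : Subgroup B).subtype)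
    ⟨im e R, mcl_im e hR, by rw [card_omega_im, hm, maxOmega_congr e]⟩

theorem map_frattiniJoin (p : ℕ) :
    (frattiniOfMinimalCLJoin p A).map e.toMonoidHom = frattiniOfMinimalCLJoin p B := by
  refine le_antisymm (frattiniJoin_le e p) ?_
  calc frattiniOfMinimalCLJoin p B
      = im e (im e.symm (frattiniOfMinimalCLJoin p B)) := (im_symm_im e.symm _).symm
    _ ≤ _ := Subgroup.map_mono (frattiniJoin_le e.symm p)

omit [Finite A] [Finite B] in
theorem characteristic_of_map {H : Subgroup A} (h : ∀ φ : A ≃* A, H.map φ.toMonoidHom = H) :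
    H.Characteristic :=
  Subgroup.characteristic_iff_map_eq.mpr h

theorem minimalJoin_char : (minimalCentrallyLargeJoin A).Characteristic :=
  characteristic_of_map fun φ => map_minimalJoin φ

theorem frattiniJoin_char (p : ℕ) : (frattiniOfMinimalCLJoin p A).Characteristic :=
  characteristic_of_map fun φ => map_frattiniJoin φ p

end Cfsg.Agent.Lib.PushPair69
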