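import Cfsg.Agent.Lib.PushPair69.Reduction

/-!
The two forms of the pair theorem, given the common subgroup of the amalgam.
-/

set_option autoImplicit false
set_option linter.unusedSectionVars false
set_option linter.style.haveILetI false
universe u

open Cfsg
open scoped Pointwise commutatorElement

namespace Cfsg.Agent.Lib.PushPair69

open Cfsg.Agent.Lib.LAEven57.CL
open Cfsg.Agent.Lib.LAEven57.PushingUp

variable {p : ℕ} [hp : Fact p.Prime] {S : Type u} [Group S] [Finite S]

/-- The conditions shared by the two exceptional classes. -/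
def Exc (p : ℕ) (S : Type u) [Group S] : Prop :=
  ¬ IsMulCommutative S ∧ thompsonSubgroupA S = ⊤ ∧ IsElementaryAbelian p (Subgroup.center S) ∧
    IsElementaryAbelian p (frattini S) ∧ (p = 2 → frattini S ≤ Subgroup.center S) ∧
    (p = 3 → frattini S ≤ Subgroup.upperCentralSeries S 2) ∧
    (3 < p → frattini S ≤ Subgroup.center S ∧ Monoid.exponent S = p) ∧
    (∀ A ∈ maxAbelianSubgroups S, ∀ B ∈ maxAbelianSubgroups S, ∀ Q : Subgroup S,
      Nat.card ↥A ^ 2 = Nat.card S * Nat.card ↥(Subgroup.center S) ∧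
      Nat.card ↥Q * Nat.card ↥(Subgroup.center ↥Q) ≤ Nat.card S * Nat.card ↥(Subgroup.center S) ∧
      ((A ⊔ B : Subgroup S) : Set S) = (A : Set S) * (B : Set S) ∧
      A ⊔ B = Subgroup.centralizer ((A ⊓ B : Subgroup S) : Set S))

theorem center_eq_top (h : IsMulCommutative S) : Subgroup.center S = ⊤ :=
  top_le_iff.mp fun x _ => Subgroup.mem_center_iff.mpr fun y => h.is_comm.comm y x

/-- A pair whose second member contains a centrally large subgroup, or the group is exceptional. -/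
theorem pair_or_exc (hcommon : CommonHyp.{u} p) [Nontrivial S] (hS : IsPGroup p S) :
    (∃ S₁ S₂, IsPair p S S₁ S₂ ∧ maxCentralProduct ↥S₂ = maxCentralProduct ↥(jt S)) ∨
      (Exc p S ∧ jt S = ⊤ ∧ ∀ Q : Subgroup S, IsMinimalCentrallyLarge Q ↔ Q ∈ maxAbelianSubgroups S) := by
  by_cases hzj : ⁅zj S, (⊤ : Subgroup S)⁆ = ⊥
  swap
  · exact Or.inl ⟨_, jt S, pair_zj hS hzj, rfl⟩
  by_cases hel : IsElementaryAbelian p (Subgroup.center S)
  swap
  · exact Or.inl ⟨_, jt S, pair_center hS hel, rfl⟩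
  have hjt := jt_eq_top hzj
  have hmax : ∀ {X : Subgroup S}, maxCentralProduct ↥X = maxCentralProduct S →
      maxCentralProduct ↥X = maxCentralProduct ↥(jt S) := fun h => by
    rw [h, hjt]; exact (maxCentralProduct_congr Subgroup.topEquiv).symm
  by_cases hab : IsMulCommutative S
  · exact Or.inl ⟨⊤, ⊤, pair_abelian hjt (center_eq_top hab), by rw [hjt]⟩
  by_cases hQ : ∀ Q : Subgroup S, IsMinimalCentrallyLarge Q → ⁅Q, Q⁆ = ⊥
  swap
  · push Not at hQ
    obtain ⟨Q, hQm, hQn⟩ := hQ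
    exact Or.inl ⟨_, _, (pair_mcl hS hjt hQm hQn).1, hmax (pair_mcl hS hjt hQm hQn).2⟩
  obtain ⟨hJ, htop, hiff⟩ := top_cl hQ hjt
  by_cases hexc : excSub p S = ⊥
  swap
  · obtain ⟨S₁, S₂, h1, h2⟩ := pair_common hcommon hS hzj hel htop hexc
    exact Or.inl ⟨S₁, S₂, h1, hmax h2⟩
  obtain ⟨h4, h5, h6, h7⟩ := exc_conditions hel hS hexc
  exact Or.inr ⟨⟨hab, hJ, hel, h4, h5, h6, h7, large_conditions htop hiff⟩, hjt, hiff⟩

/-- A pair, unless the group is exceptional and has an elementary abelian subgroup of largest order. -/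
theorem pair_or_exc_elementary (hcommon : CommonHyp.{u} p) [Nontrivial S] (hS : IsPGroup p S) :
    (∃ S₁ S₂, IsPair p S S₁ S₂) ∨ (Exc p S ∧ ∃ A ∈ maxAbelianSubgroups S, IsElementaryAbelian p A) := by
  rcases pair_or_exc hcommon hS with ⟨S₁, S₂, h, -⟩ | ⟨he, hjt, -⟩
  · exact Or.inl ⟨S₁, S₂, h⟩
  by_cases hne : frattiniOfMinimalCLJoin p S = ⊥
  · exact Or.inr ⟨he, (of_frattiniJoin_bot hS hne).2⟩
  · exact Or.inl ⟨_, _, pair_frattini hS hjt hne⟩

/-- The embedded form of normality. -/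
theorem IsPair.normal' {S₁ S₂ : Subgroup S} (h : IsPair p S S₁ S₂) {G : Type u} [Group G] [Finite G]
    (P : Subgroup G) (e : S ≃* ↥P) (hE : IsPushingUpSituation p P) :
    ((S₁).map ((P.subtype).comp (e : S ≃* ↥P).toMonoidHom)).Normal ∨
      ((S₂).map ((P.subtype).comp (e : S ≃* ↥P).toMonoidHom)).Normal := by
  refine h.normal G _ (P.subtype_injective.comp e.injective) ?_
  rwa [MonoidHom.range_comp, MonoidHom.range_eq_top.mpr e.surjective, ← MonoidHom.range_eq_map, Subgroup.range_subtype]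

end Cfsg.Agent.Lib.PushPair69
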