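import Cfsg.Agent.Lib.PushPair69.CLLayer

/-!
A pair of characteristic subgroups for rank one pushing up, outside the exceptional class.
-/

set_option autoImplicit false
set_option linter.unusedSectionVars false
set_option linter.style.haveILetI false
universe u

open Cfsg
open scoped Pointwise commutatorElement

namespace Cfsg.Agent.Lib.PushPair69

open Cfsg.Agent.Lib.LAEven57.CL
open Cfsg.Agent.Lib.LAEven57.PushingUp

/-- `Z(J(S))`. -/
abbrev zj (S : Type*) [Group S] : Subgroup S :=
  thompsonSubgroupA S ⊓ Subgroup.centralizer (thompsonSubgroupA S : Set S)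

/-- `C_S(Z(J(S)))`. -/
abbrev jt (S : Type*) [Group S] : Subgroup S := Subgroup.centralizer (zj S : Set S)

/-- The result of the multi-type amalgam. -/
def CommonHyp (p : ℕ) : Prop :=
  ∀ (S : Type u) [Group S] [Finite S], IsPGroup p S → ⁅zj S, (⊤ : Subgroup S)⁆ = ⊥ →
    IsElementaryAbelian p (Subgroup.center S) →
    ∃ W : Subgroup S, W.Characteristic ∧ W ≤ Subgroup.centralizer (W : Set S) ∧
      ∀ (G : Type u) [Group G] [Finite G] (τ : S →* G), Function.Injective τ →
        IsPushingUpSituation p τ.range →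
          ((excSub p S ⊓ Subgroup.center S).map τ).Normal ∨
            ((W.map τ).Normal ∧
              Subgroup.normalClosure (((Subgroup.center S).map τ : Subgroup G) : Set G) ≤ W.map τ)

/-- A good pair. -/
structure IsPair (p : ℕ) (S : Type u) [Group S] (S₁ S₂ : Subgroup S) : Prop where
  ne₁ : S₁ ≠ ⊥
  ne₂ : S₂ ≠ ⊥
  char₁ : S₁.Characteristic
  char₂ : S₂.Characteristic
  le₁ : S₁ ≤ Subgroup.center S
  le₂ : S₂ ≤ jt S
  char₂' : (S₂.subgroupOf (jt S)).Characteristic
  normal : ∀ (G : Type u) [Group G] [Finite G] (τ : S →* G), Function.Injective τ →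
    IsPushingUpSituation p τ.range → (S₁.map τ).Normal ∨ (S₂.map τ).Normal

variable {p : ℕ} [hp : Fact p.Prime] {S : Type u} [Group S] [Finite S]

theorem characteristic_inf' {H K : Subgroup S} (hH : H.Characteristic) (hK : K.Characteristic) :
    (H ⊓ K).Characteristic :=
  Subgroup.characteristic_iff_map_eq.mpr fun φ => by
    rw [Subgroup.map_inf _ _ _ φ.injective, Subgroup.characteristic_iff_map_eq.mp hH,
      Subgroup.characteristic_iff_map_eq.mp hK]

instance thompsonA_char : (thompsonSubgroupA S).Characteristic :=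
  Subgroup.characteristic_iff_map_eq.mpr fun φ => by
    rw [map_thompsonA φ.toMonoidHom φ.injective, MonoidHom.range_eq_top.mpr φ.surjective, thompsonAOf_top]

theorem zj_char : (zj S).Characteristic :=
  characteristic_inf' inferInstance inferInstance

theorem jt_char : (jt S).Characteristic := by
  haveI := zj_char (S := S)
  infer_instance

theorem sub_top_char {H : Subgroup S} (h : jt S = ⊤) (hH : H.Characteristic) :
    (H.subgroupOf (jt S)).Characteristic := by
  refine Subgroup.characteristic_iff_map_le.mpr fun φ => ?_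
  rintro _ ⟨x, hx, rfl⟩
  let e : S ≃* ↥(jt S) := (Subgroup.topEquiv.symm.trans (MulEquiv.subgroupCongr h.symm))
  have h2 := Subgroup.characteristic_iff_le_comap.mp hH (e.trans (φ.trans e.symm)) (show (x : S) ∈ H from hx)
  exact h2

theorem char_sub_jt (h : jt S ≠ ⊥) : jt S ≠ ⊥ ∧ ((jt S).subgroupOf (jt S)).Characteristic :=
  ⟨h, by rw [Subgroup.subgroupOf_self]; infer_instance⟩

theorem jt_ne_bot [Nontrivial S] (hS : IsPGroup p S) : jt S ≠ ⊥ := by
  intro h
  refine (Subgroup.nontrivial_iff_ne_bot _).mp hS.center_nontrivial (le_bot_iff.mp ?_)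
  rw [← h]
  exact Subgroup.center_le_centralizer _

theorem inf_center_ne [Nontrivial S] (hS : IsPGroup p S) {H : Subgroup S} (hH : H.Characteristic) (h : H ≠ ⊥) :
    H ⊓ Subgroup.center S ≠ ⊥ :=
  Cfsg.Agent.Lib.PGroups.normal_inf_center_ne_bot hS H h

theorem normal_map_le_center {G : Type*} [Group G] [Finite G] {τ : S →* G} {H : Subgroup S}
    (h : H.map τ ≤ Subgroup.center G) : (H.map τ).Normal :=
  normal_of_central h

/-- `S` does not centralize `Z(J(S))`. -/
theorem pair_zj [Nontrivial S] (hS : IsPGroup p S) (h : ⁅zj S, (⊤ : Subgroup S)⁆ ≠ ⊥) :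
    IsPair p S (⁅zj S, (⊤ : Subgroup S)⁆ ⊓ Subgroup.center S) (jt S) := by
  haveI := zj_char (S := S)
  haveI : ⁅zj S, (⊤ : Subgroup S)⁆.Characteristic := inferInstance
  refine ⟨inf_center_ne hS inferInstance h, jt_ne_bot hS, characteristic_inf' inferInstance inferInstance,
    jt_char, inf_le_right, le_rfl, by rw [Subgroup.subgroupOf_self]; infer_instance, fun G _ _ τ hinj hE => ?_⟩
  have eZ := map_center τ hinj
  rcases Cfsg.Agent.Lib.Baumann.PushCenter.main hE with hc | hn | ⟨-, hc, -⟩
  · refine Or.inl (normal_map_le_center ((Subgroup.map_mono inf_le_right).trans ?_))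
    rwa [eZ]
  · refine Or.inr ?_
    rw [jt, map_centralizer τ hinj, map_centerThompsonA τ hinj]
    exact hn
  · refine Or.inl (normal_map_le_center ?_)
    rwa [Subgroup.map_inf _ _ _ hinj, eZ, Subgroup.map_commutator, map_centerThompsonA τ hinj,
      ← MonoidHom.range_eq_map]

theorem jt_eq_top (h : ⁅zj S, (⊤ : Subgroup S)⁆ = ⊥) : jt S = ⊤ := by
  rw [Subgroup.commutator_eq_bot_iff_le_centralizer] at h
  exact top_le_iff.mp (Subgroup.le_centralizer_iff.mp h)

/-- `Z(S)` is not elementary abelian. -/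
theorem pair_center [Nontrivial S] (hS : IsPGroup p S) (h : ¬ IsElementaryAbelian p (Subgroup.center S)) :
    IsPair p S (powerClosure p 1 (Subgroup.center S)) (jt S) := by
  have hle : powerClosure p 1 (Subgroup.center S) ≤ Subgroup.center S :=
    (Subgroup.closure_le _).mpr (by rintro _ ⟨x, hx, rfl⟩; exact pow_mem hx _)
  have hchar : (powerClosure p 1 (Subgroup.center S)).Characteristic :=
    Subgroup.characteristic_iff_map_le.mpr fun φ => by
      rw [powerClosure, MonoidHom.map_closure]
      refine Subgroup.closure_mono ?_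
      rintro _ ⟨_, ⟨x, hx, rfl⟩, rfl⟩
      exact ⟨φ x, Subgroup.characteristic_iff_le_comap.mp inferInstance φ hx, by simp⟩
  have hne : powerClosure p 1 (Subgroup.center S) ≠ ⊥ := by
    intro hbot
    refine h (Cfsg.Agent.Lib.PGroups.elemAb_mk (fun a ha b _ => (Subgroup.mem_center_iff.mp ha b).symm)
      fun a ha => ?_)
    have : a ^ p ^ 1 ∈ powerClosure p 1 (Subgroup.center S) := Subgroup.subset_closure ⟨a, ha, rfl⟩
    rwa [hbot, Subgroup.mem_bot, pow_one] at this
  refine ⟨hne, jt_ne_bot hS, hchar, jt_char, hle, le_rfl, by rw [Subgroup.subgroupOf_self]; infer_instance,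
    fun G _ _ τ hinj hE => ?_⟩
  have eZ := map_center τ hinj
  rcases Cfsg.Agent.Lib.Baumann.PushCenter.main hE with hc | hn | ⟨hc, -, -⟩
  · refine Or.inl (normal_map_le_center ((Subgroup.map_mono hle).trans ?_))
    rwa [eZ]
  · refine Or.inr ?_
    rw [jt, map_centralizer τ hinj, map_centerThompsonA τ hinj]
    exact hn
  · refine Or.inl (normal_map_le_center (le_trans ?_ hc))
    rw [← eZ, powerClosure, powerClosure, MonoidHom.map_closure]
    refine Subgroup.closure_mono ?_
    rintro _ ⟨_, ⟨x, hx, rfl⟩, rfl⟩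
    exact ⟨τ x, ⟨x, hx, rfl⟩, map_pow τ x _⟩

/-- The centre, viewed in the image. -/
theorem range_center {G : Type*} [Group G] [Finite G] (τ : S →* G) (hinj : Function.Injective τ)
    (H : Subgroup S) :
    (H.map (MonoidHom.ofInjective hinj).toMonoidHom).map τ.range.subtype = H.map τ := by
  rw [Subgroup.map_map]
  rfl

theorem range_jt {G : Type*} [Group G] [Finite G] (τ : S →* G) (hinj : Function.Injective τ) (hjt : jt S = ⊤) :
    τ.range ≤ Subgroup.centralizer (centerThompsonAOf τ.range : Set G) := by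
  rw [← map_centerThompsonA τ hinj]
  rintro _ ⟨x, rfl⟩
  refine Subgroup.mem_centralizer_iff.mpr ?_
  rintro _ ⟨z, hz, rfl⟩
  rw [← map_mul, ← map_mul, Subgroup.mem_centralizer_iff.mp (hjt ▸ Subgroup.mem_top x : x ∈ jt S) z hz]

/-- A minimal centrally large subgroup is not abelian. -/
theorem pair_mcl [Nontrivial S] (hS : IsPGroup p S) (hjt : jt S = ⊤) {Q : Subgroup S}
    (hQ : IsMinimalCentrallyLarge Q) (hQn : ⁅Q, Q⁆ ≠ ⊥) :
    IsPair p S (⁅Q, Q⁆ ⊓ Subgroup.center S) (minimalCentrallyLargeJoin S) ∧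
      maxCentralProduct ↥(minimalCentrallyLargeJoin S) = maxCentralProduct S := by
  have hcl := minimalJoin_cl (P := S)
  have hne : minimalCentrallyLargeJoin S ≠ ⊥ := fun h => hQn (le_bot_iff.mp (by
    have hQle : Q ≤ ⊥ := h ▸ le_sSup hQ
    exact (Subgroup.commutator_mono hQle hQle).trans (Subgroup.commutator_le_left _ _)))
  haveI := commutator_characteristic hQ
  refine ⟨⟨inf_center_ne hS inferInstance hQn, hne, characteristic_inf' inferInstance inferInstance,
    minimalJoin_char, inf_le_right, hjt ▸ le_top, sub_top_char hjt minimalJoin_char, fun G _ _ τ hinj hE => ?_⟩, ?_⟩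
  · set e := MonoidHom.ofInjective hinj with he
    rcases main_commutator hE (mcl_im e hQ) with hn | hn
    · refine Or.inl ?_
      have : (⁅Q, Q⁆ ⊓ Subgroup.center S).map τ =
          (τ.range ⊓ Subgroup.centralizer (τ.range : Set G)) ⊓ (⁅im e Q, im e Q⁆).map τ.range.subtype := by
        rw [Subgroup.map_inf _ _ _ hinj, map_center τ hinj, inf_comm, im, ← Subgroup.map_commutator,
          range_center τ hinj]
      rw [this]; exact hn
    · refine Or.inr ?_
      rwa [← map_minimalJoin e, range_center τ hinj] at hn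
  · exact maxProduct_cl hcl
where
  maxProduct_cl {X : Subgroup S} (hX : IsCentrallyLarge X) : maxCentralProduct ↥X = maxCentralProduct S := by
    refine le_antisymm ?_ ?_
    · obtain ⟨R, hR⟩ := exists_centrallyLarge (P := ↥X)
      rw [IsCentrallyLarge] at hR
      rw [← hR, Nat.card_congr (R.equivMapOfInjective X.subtype X.subtype_injective).toEquiv,
        Nat.card_congr (Subgroup.centerCongr (R.equivMapOfInjective X.subtype X.subtype_injective)).toEquiv,
        card_center]
      exact mZ_le _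
    · rw [IsCentrallyLarge] at hX
      have h1 := mZ_le (⊤ : Subgroup ↥X)
      rw [mZ, ← card_center, Subgroup.card_top,
        Nat.card_congr (Subgroup.centerCongr (Subgroup.topEquiv (G := ↥X))).toEquiv, hX] at h1
      exact h1

/-- The Frattini subgroups of suitable minimal centrally large subgroups are nontrivial. -/
theorem pair_frattini [Nontrivial S] (hS : IsPGroup p S) (hjt : jt S = ⊤)
    (hne : frattiniOfMinimalCLJoin p S ≠ ⊥) :
    IsPair p S (Subgroup.center S) (frattiniOfMinimalCLJoin p S) := by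
  refine ⟨(Subgroup.nontrivial_iff_ne_bot _).mp hS.center_nontrivial, hne, inferInstance, frattiniJoin_char p,
    le_rfl, hjt ▸ le_top, sub_top_char hjt (frattiniJoin_char p), fun G _ _ τ hinj hE => ?_⟩
  set e := MonoidHom.ofInjective hinj with he
  rcases main_frattini hE with hn | hn
  · exact Or.inl (by rwa [map_center τ hinj])
  · refine Or.inr ?_
    rwa [← map_frattiniJoin e p, range_center τ hinj] at hn

/-- An abelian group. -/
theorem pair_abelian [Nontrivial S] (hjt : jt S = ⊤) (hab : Subgroup.center S = ⊤) :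
    IsPair p S (⊤ : Subgroup S) ⊤ := by
  refine ⟨top_ne_bot, top_ne_bot, inferInstance, inferInstance, hab.ge, hjt ▸ le_rfl,
    sub_top_char hjt inferInstance, fun G _ _ τ hinj hE => Or.inl ?_⟩
  obtain ⟨P₀, hP₀⟩ := id hE.2.1
  have hPS : pCore p G ≤ τ.range := hP₀ ▸ Cfsg.Agent.Lib.Cores.pCore_le_sylow P₀
  have hle : τ.range ≤ pCore p G := by
    rintro _ ⟨x, rfl⟩
    refine hE.2.2.1 (Subgroup.mem_centralizer_iff.mpr fun y hy => ?_)
    obtain ⟨z, rfl⟩ := hPS hy
    rw [← map_mul, ← map_mul, Subgroup.mem_center_iff.mp (hab ▸ Subgroup.mem_top x : x ∈ Subgroup.center S) z]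
  rw [← MonoidHom.range_eq_map, le_antisymm hle hPS]
  infer_instance

theorem top_cl (hQ : ∀ Q : Subgroup S, IsMinimalCentrallyLarge Q → ⁅Q, Q⁆ = ⊥) (hjt : jt S = ⊤) :
    thompsonSubgroupA S = ⊤ ∧ IsCentrallyLarge (⊤ : Subgroup S) ∧
      (∀ Q : Subgroup S, IsMinimalCentrallyLarge Q ↔ Q ∈ maxAbelianSubgroups S) := by
  have hab : ∀ Q : Subgroup S, IsMinimalCentrallyLarge Q → IsMulCommutative ↥Q := fun Q h =>
    isMulCommutative_iff_le_cz.mpr (Subgroup.commutator_eq_bot_iff_le_centralizer.mp (hQ Q h))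
  have hJ : thompsonSubgroupA S = ⊤ := (thompsonA_eq_of_abelian hab).symm.trans hjt
  obtain ⟨Q₀, hQ₀⟩ := exists_centrallyLarge (P := S)
  obtain ⟨R, hR, -⟩ := exists_minimal_le hQ₀
  refine ⟨hJ, ?_, abelian_minimal_iff hR (hab R hR)⟩
  rw [← hJ]
  exact cl_sSup exists_maxAbelian fun A hA => ((abelian_minimal_iff hR (hab R hR) A).mpr hA).1

/-- The conditions on the abelian subgroups of largest order. -/
theorem large_conditions (htop : IsCentrallyLarge (⊤ : Subgroup S))
    (hiff : ∀ Q : Subgroup S, IsMinimalCentrallyLarge Q ↔ Q ∈ maxAbelianSubgroups S) :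
    ∀ A ∈ maxAbelianSubgroups S, ∀ B ∈ maxAbelianSubgroups S, ∀ Q : Subgroup S,
      Nat.card ↥A ^ 2 = Nat.card S * Nat.card ↥(Subgroup.center S) ∧
      Nat.card ↥Q * Nat.card ↥(Subgroup.center ↥Q) ≤ Nat.card S * Nat.card ↥(Subgroup.center S) ∧
      ((A ⊔ B : Subgroup S) : Set S) = (A : Set S) * (B : Set S) ∧
      A ⊔ B = Subgroup.centralizer ((A ⊓ B : Subgroup S) : Set S) := by
  intro A hA B hB Q
  have hf : maxCentralProduct S = Nat.card S * Nat.card ↥(Subgroup.center S) := by
    have h := (centrallyLarge_iff.mp htop).1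
    rw [maxCentralProduct_eq, ← h]
    simp only [Subgroup.coe_top, Subgroup.centralizer_univ, Subgroup.card_top]
  have hA' := centrallyLarge_iff.mp ((hiff A).mpr hA).1
  have hB' := centrallyLarge_iff.mp ((hiff B).mpr hB).1
  obtain ⟨-, -, hset, hcz⟩ := cd hA'.1 hB'.1
  refine ⟨?_, ?_, hset, ?_⟩
  · rw [← hf, maxCentralProduct_eq, ← hA'.1]
    conv_rhs => rw [show Subgroup.centralizer (A : Set S) = A from maxAbelian_cz hA]
    rw [sq]
  · rw [card_center, ← hf]; exact mZ_le Q
  · rw [maxAbelian_cz hA, maxAbelian_cz hB] at hcz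
    exact hcz.symm

/-- The exceptional conditions in the last case. -/
theorem exc_conditions (hel : IsElementaryAbelian p (Subgroup.center S)) (hS : IsPGroup p S) [Nontrivial S]
    (h : excSub p S = ⊥) :
    IsElementaryAbelian p (frattini S) ∧ (p = 2 → frattini S ≤ Subgroup.center S) ∧
      (p = 3 → frattini S ≤ Subgroup.upperCentralSeries S 2) ∧
      (3 < p → frattini S ≤ Subgroup.center S ∧ Monoid.exponent S = p) := by
  have hcent : ⁅frattini S, (⊤ : Subgroup S)⁆ = ⊥ → frattini S ≤ Subgroup.center S := fun h1 => by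
    rw [Subgroup.commutator_eq_bot_iff_le_centralizer, Subgroup.coe_top, Subgroup.centralizer_univ] at h1
    exact h1
  have helem : (frattini ↥(frattini S)).map (frattini S).subtype = ⊥ → IsElementaryAbelian p (frattini S) :=
    fun h1 => by
      have h2 := (Cfsg.Agent.Lib.PGroups.frattini_eq_bot_iff (hS.to_subgroup _)).mp
        ((Subgroup.map_eq_bot_iff_of_injective _ (frattini S).subtype_injective).mp h1)
      exact Cfsg.Agent.Lib.PGroups.elemAb_mk
        (fun a ha b hb => congrArg Subtype.val (Cfsg.Agent.Lib.PGroups.elemAb_comm h2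
          (Subgroup.mem_top (⟨a, ha⟩ : ↥(frattini S))) (Subgroup.mem_top ⟨b, hb⟩)))
        (fun a ha => congrArg Subtype.val (Cfsg.Agent.Lib.PGroups.elemAb_pow h2
          (Subgroup.mem_top (⟨a, ha⟩ : ↥(frattini S)))))
  unfold excSub at h
  rcases eq_or_ne p 2 with h2 | h2
  · rw [if_pos h2, sup_eq_bot_iff] at h
    exact ⟨helem h.2, fun _ => hcent h.1, fun h3 => by omega, fun h3 => by omega⟩
  rw [if_neg h2] at h
  rcases eq_or_ne p 3 with h3 | h3
  · rw [if_pos h3, sup_eq_bot_iff] at h
    refine ⟨helem h.2, fun e => absurd e h2, fun _ => ?_, fun h' => by omega⟩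
    intro x hx
    refine Subgroup.mem_upperCentralSeries_succ_iff.mpr fun y => ?_
    rw [Subgroup.upperCentralSeries_one]
    refine Subgroup.mem_center_iff.mpr fun z => (commutatorElement_eq_one_iff_mul_comm.mp ?_).symm
    have := h.1 ▸ Subgroup.commutator_mem_commutator
      (Subgroup.commutator_mem_commutator hx (Subgroup.mem_top y)) (Subgroup.mem_top z)
    exact Subgroup.mem_bot.mp this
  · rw [if_neg h3, sup_eq_bot_iff] at h
    have hΦ := hcent h.1
    have hpow : ∀ x : S, x ^ p = 1 := fun x => by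
      have : x ^ p ^ 1 ∈ powerClosure p 1 (⊤ : Subgroup S) := Subgroup.subset_closure ⟨x, Subgroup.mem_top x, rfl⟩
      rwa [h.2, Subgroup.mem_bot, pow_one] at this
    refine ⟨Cfsg.Agent.Lib.PGroups.elemAb_mk (fun a ha b hb => Cfsg.Agent.Lib.PGroups.elemAb_comm hel (hΦ ha) (hΦ hb))
      (fun a ha => hpow a), fun e => absurd e h2, fun e => absurd e h3, fun _ => ⟨hΦ, ?_⟩⟩
    rcases (Nat.dvd_prime hp.out).mp (Monoid.exponent_dvd_of_forall_pow_eq_one hpow) with e | e
    · exact absurd (Monoid.exp_eq_one_iff.mp e) (not_subsingleton S)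
    · exact e

/-- The main case. -/
theorem pair_common (hcommon : CommonHyp.{u} p) [Nontrivial S] (hS : IsPGroup p S)
    (hzj : ⁅zj S, (⊤ : Subgroup S)⁆ = ⊥) (hel : IsElementaryAbelian p (Subgroup.center S))
    (htop : IsCentrallyLarge (⊤ : Subgroup S)) (hexc : excSub p S ≠ ⊥) :
    ∃ S₁ S₂, IsPair p S S₁ S₂ ∧ maxCentralProduct ↥S₂ = maxCentralProduct S := by
  obtain ⟨W, hWc, hWab, hW⟩ := hcommon S hS hzj hel
  have hjt := jt_eq_top hzj
  have hchar : (excSub p S).Characteristic := excSub_char
  have hS₁ : (excSub p S ⊓ Subgroup.center S).Characteristic := characteristic_inf' hchar inferInstance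
  have hne := inf_center_ne hS hchar hexc
  by_cases hbadex : ∃ (G : Type u) (_ : Group G) (_ : Finite G) (τ : S →* G), Function.Injective τ ∧
      IsPushingUpSituation p τ.range ∧ ¬ ((excSub p S ⊓ Subgroup.center S).map τ).Normal
  · obtain ⟨G, _, _, τ, hinj, hE, hn⟩ := hbadex
    obtain ⟨hWn, hVW⟩ := (hW G τ hinj hE).resolve_left hn
    have hbad : ¬ (Subgroup.center S).map τ ≤ Subgroup.center G := fun hle =>
      hn (normal_map_le_center ((Subgroup.map_mono inf_le_right).trans hle))
    obtain ⟨hVm, -⟩ := closure_member hinj hE hel htop hbad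
    have hUm := memberJoin_member hWab ⟨_, hVm, fun x hx => by
      obtain ⟨w, hw, hwx⟩ := hVW hx
      exact hinj hwx ▸ hw⟩
    have hcl := hUm.cl
    haveI := memberJoin_char (W := W) hWc
    refine ⟨_, cz (memberJoin W), ⟨hne, ?_, hS₁, inferInstance, inf_le_right, hjt ▸ le_top,
      sub_top_char hjt inferInstance, fun H _ _ σ hσ hEσ => ?_⟩, pair_mcl.maxProduct_cl hcl⟩
    · intro h
      refine (Subgroup.nontrivial_iff_ne_bot _).mp hS.center_nontrivial (le_bot_iff.mp ?_)
      rw [← h]
      exact Subgroup.center_le_centralizer _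
    · by_cases hσn : ((excSub p S ⊓ Subgroup.center S).map σ).Normal
      · exact Or.inl hσn
      obtain ⟨hWn', hVW'⟩ := (hW H σ hσ hEσ).resolve_left hσn
      exact Or.inr (memberJoin_normal hσ hEσ hel htop
        (fun hle => hσn (normal_map_le_center ((Subgroup.map_mono inf_le_right).trans hle))) hWab hWn' hVW').2
  · refine ⟨_, jt S, ⟨hne, jt_ne_bot hS, hS₁, jt_char, inf_le_right, le_rfl,
      by rw [Subgroup.subgroupOf_self]; infer_instance, fun G _ _ τ hinj hE => Or.inl ?_⟩, ?_⟩
    · by_contra hn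
      exact hbadex ⟨G, inferInstance, inferInstance, τ, hinj, hE, hn⟩
    · rw [hjt]; exact pair_mcl.maxProduct_cl htop
where
  excSub_char : (excSub p S).Characteristic := by
    have hΦ : ((frattini ↥(frattini S)).map (frattini S).subtype).Characteristic := inferInstance
    unfold excSub
    split_ifs
    · infer_instance
    · infer_instance
    · haveI : (powerClosure p 1 (⊤ : Subgroup S)).Characteristic :=
        Subgroup.characteristic_iff_map_le.mpr fun φ => by
          rw [powerClosure, MonoidHom.map_closure]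
          refine Subgroup.closure_mono ?_
          rintro _ ⟨_, ⟨x, _, rfl⟩, rfl⟩
          exact ⟨φ x, Subgroup.mem_top _, by simp⟩
      infer_instance

end Cfsg.Agent.Lib.PushPair69
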